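import Groth.Agent.VarNorm.Chart
import Mathlib.AlgebraicGeometry.ZariskisMainTheorem
import Mathlib.RingTheory.Etale.QuasiFinite
import Mathlib.AlgebraicGeometry.Morphisms.Etale
import Mathlib.AlgebraicGeometry.Morphisms.Finite
import Mathlib.AlgebraicGeometry.Morphisms.Immersion

/-! Elementary etale localization of quasi-finite morphisms at a point. -/

set_option autoImplicit false

open CategoryTheory CategoryTheory.Limits AlgebraicGeometry TensorProduct

namespace Groth.Agent.Cyc20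

universe u

theorem surjective_residueFieldMap_specMap {A C : CommRingCat.{u}} (φ : A ⟶ C) (P : Spec C)
    (h : ∀ z : C, ∃ a b : A, φ.hom b ∉ (P : PrimeSpectrum C).asIdeal ∧
      φ.hom b * z - φ.hom a ∈ (P : PrimeSpectrum C).asIdeal) :
    Function.Surjective ((Spec.map φ).residueFieldMap P).hom := by
  let α : A →+* (Spec A).residueField ((Spec.map φ).base P) :=
    (CommRingCat.ofHom (algebraMap A _) ≫ (Scheme.Spec.residueFieldIso A ((Spec.map φ).base P)).inv).hom
  let β : C →+* (Spec C).residueField P :=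
    (CommRingCat.ofHom (algebraMap C _) ≫ (Scheme.Spec.residueFieldIso C P).inv).hom
  have hkey : ∀ a, β (φ.hom a) = ((Spec.map φ).residueFieldMap P).hom (α a) := fun a =>
    congrArg (fun ψ => ψ.hom a) (VarNorm.residueFieldMap_SpecMap_key φ P)
  have hbij := ConcreteCategory.bijective_of_isIso (Scheme.Spec.residueFieldIso C P).inv
  have hne : ∀ d : C, d ∉ (P : PrimeSpectrum C).asIdeal → β d ≠ 0 := fun d hd h0 => by
    refine hd (Ideal.algebraMap_residueField_eq_zero.1 (hbij.1 ?_))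
    exact h0.trans (map_zero _).symm
  have hzero : ∀ d ∈ (P : PrimeSpectrum C).asIdeal, β d = 0 := fun d hd => by
    show (Scheme.Spec.residueFieldIso C P).inv.hom (algebraMap C _ d) = 0
    rw [Ideal.algebraMap_residueField_eq_zero.2 hd, map_zero]
  have hC : ∀ c : C, ∃ y, ((Spec.map φ).residueFieldMap P).hom y = β c := fun c => by
    obtain ⟨a, b, hb, e⟩ := h c
    refine ⟨α a / α b, ?_⟩
    have e' := hzero _ e
    rw [map_sub, map_mul, sub_eq_zero] at e'
    rw [map_div₀, ← hkey, ← hkey, ← e', mul_div_cancel_left₀ _ (hne _ hb)]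
  intro x
  obtain ⟨w, hw⟩ := hbij.2 x
  obtain ⟨c, d, hd, hcd⟩ := IsFractionRing.div_surjective (C ⧸ (P : PrimeSpectrum C).asIdeal) w
  obtain ⟨c, rfl⟩ := Ideal.Quotient.mk_surjective c
  obtain ⟨d, rfl⟩ := Ideal.Quotient.mk_surjective d
  obtain ⟨y₁, h₁⟩ := hC c
  obtain ⟨y₂, h₂⟩ := hC d
  refine ⟨y₁ / y₂, ?_⟩
  rw [map_div₀, h₁, h₂, ← hw, ← hcd]
  exact (map_div₀ (Scheme.Spec.residueFieldIso C P).inv.hom _ _).symm

theorem exists_sub_mem {A B R : Type u} [CommRing A] [CommRing B] [CommRing R] [Algebra A B]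
    [Algebra A R] (p : Ideal A) [p.IsPrime] (P : Ideal R) [P.IsPrime] [P.LiesOver p]
    (P' : Ideal (R ⊗[A] B)) [P'.IsPrime] [P'.LiesOver P]
    (hP : Function.Bijective (Ideal.ResidueField.mapₐ p P (Algebra.ofId _ _) (P.over_def p)))
    (z : R ⊗[A] B) : ∃ a b : B, Algebra.TensorProduct.includeRight b ∉ P' ∧
      Algebra.TensorProduct.includeRight b * z - Algebra.TensorProduct.includeRight a ∈ P' := by
  induction z using TensorProduct.induction_on with
  | zero =>
    exact ⟨0, 1, fun h => ‹P'.IsPrime›.ne_top ((Ideal.eq_top_iff_one _).2 (by simpa [Algebra.TensorProduct.one_def] using h)), by simp⟩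
  | add x y hx hy =>
    obtain ⟨a, b, hb, hx⟩ := hx
    obtain ⟨a', b', hb', hy⟩ := hy
    refine ⟨a * b' + a' * b, b * b', ?_, ?_⟩
    · rw [map_mul]
      exact fun h => (‹P'.IsPrime›.mem_or_mem h).elim hb hb'
    · convert P'.add_mem (P'.mul_mem_left (Algebra.TensorProduct.includeRight b') hx)
        (P'.mul_mem_left (Algebra.TensorProduct.includeRight b) hy) using 1
      simp only [map_mul, map_add]
      ring
  | tmul r s =>
    obtain ⟨x, hx⟩ := hP.2 (algebraMap R P.ResidueField r)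
    obtain ⟨a, b, hb, rfl⟩ := IsFractionRing.div_surjective (A := A ⧸ p) x
    obtain ⟨a, rfl⟩ := Ideal.Quotient.mk_surjective a
    obtain ⟨b, rfl⟩ := Ideal.Quotient.mk_surjective b
    have hb0 : b ∉ p := fun h =>
      nonZeroDivisors.ne_zero hb (Ideal.Quotient.eq_zero_iff_mem.2 h)
    rw [map_div₀] at hx
    simp only [← Ideal.Quotient.algebraMap_eq, ← IsScalarTower.algebraMap_apply,
      AlgHom.commutes] at hx
    have hb1 : algebraMap A P.ResidueField b ≠ 0 := fun h => hb0 (by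
      rw [IsScalarTower.algebraMap_apply A R P.ResidueField, Ideal.algebraMap_residueField_eq_zero,
        ← Ideal.mem_comap, ← Ideal.under_def, ← P.over_def p] at h
      exact h)
    rw [div_eq_iff hb1] at hx
    have hmem : algebraMap A R b * r - algebraMap A R a ∈ P := by
      rw [← Ideal.algebraMap_residueField_eq_zero, map_sub, map_mul,
        ← IsScalarTower.algebraMap_apply, ← IsScalarTower.algebraMap_apply, hx]
      ring
    have hmem' : algebraMap R (R ⊗[A] B) (algebraMap A R b * r - algebraMap A R a) ∈ P' := by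
      rw [← Ideal.mem_comap, ← Ideal.under_def, ← P'.over_def P]
      exact hmem
    refine ⟨a • s, algebraMap A B b, ?_, ?_⟩
    · rw [AlgHom.commutes, IsScalarTower.algebraMap_apply A R (R ⊗[A] B), ← Ideal.mem_comap,
        ← Ideal.under_def, ← P'.over_def P, ← Ideal.mem_comap, ← Ideal.under_def, ← P.over_def p]
      exact hb0
    · convert P'.mul_mem_right (Algebra.TensorProduct.includeRight (R := A) (A := R) s) hmem' using 1
      simp only [Algebra.TensorProduct.includeRight_apply, Algebra.TensorProduct.algebraMap_apply,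
        Algebra.TensorProduct.tmul_mul_tmul, mul_one, one_mul, Algebra.algebraMap_self,
        RingHom.id_apply, sub_tmul]
      rw [sub_mul]
      simp only [Algebra.TensorProduct.tmul_mul_tmul, mul_one, one_mul, Algebra.algebraMap_eq_smul_one,
        smul_mul_assoc, tmul_smul, smul_tmul']

set_option backward.defeqAttrib.useBackward true in
set_option backward.isDefEq.respectTransparency false in
theorem exists_elementary_etale_finite_unique {X S : Scheme.{u}} (f : X ⟶ S) [LocallyOfFiniteType f]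
    (x : X) (hx : f.QuasiFiniteAt x) :
    ∃ (U : Scheme.{u}) (g : U ⟶ S) (u : U), Etale g ∧ g u = f x ∧
    ∃ (V : (pullback f g).Opens) (v : ↑(pullback f g)), v ∈ V ∧ IsFinite (V.ι ≫ pullback.snd f g) ∧
      pullback.fst f g v = x ∧ pullback.snd f g v = u ∧
      IsIso ((pullback.fst f g).residueFieldMap v) ∧
      ∀ z : ↑(pullback f g), z ∈ V → pullback.snd f g z = u → z = v := by
  obtain ⟨_, ⟨U, hU, rfl⟩, hxU, -⟩ := S.isBasis_affineOpens.exists_subset_of_mem_open
    (Set.mem_univ (f x)) isOpen_univ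
  obtain ⟨_, ⟨V, hV, rfl⟩, hxV, hUV : V ≤ f ⁻¹ᵁ U⟩ :=
    X.isBasis_affineOpens.exists_subset_of_mem_open hxU (f ⁻¹ᵁ U).2
  have : (f.appLE U V hUV).hom.FiniteType := f.finiteType_appLE hU hV hUV
  algebraize [(f.appLE U V hUV).hom]
  have : (hV.primeIdealOf ⟨x, hxV⟩).asIdeal.LiesOver (hU.primeIdealOf ⟨f x, hxU⟩).asIdeal := by
    suffices hU.primeIdealOf ⟨f x, hxU⟩ = Spec.map (f.appLE U V hUV) (hV.primeIdealOf ⟨x, hxV⟩) from
      ⟨congr(($this).1)⟩
    apply hU.isoSpec.inv.homeomorph.injective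
    apply Subtype.ext
    simp only [IsAffineOpen.primeIdealOf, Scheme.Hom.homeomorph_apply,
      ← Scheme.Hom.comp_apply, ← Scheme.Opens.ι_apply, IsAffineOpen.isoSpec_hom]
    simp
  have : Algebra.QuasiFiniteAt Γ(S, U) (hV.primeIdealOf ⟨x, hxV⟩).asIdeal :=
    hx.quasiFiniteAt hV hU hUV hxV
  obtain ⟨R, _, _, _, P, _, _, e, _, P', _, _, hP', heP', hbij, _, huniq⟩ :=
    Algebra.exists_etale_isIdempotentElem_forall_liesOver_eq
    (hU.primeIdealOf ⟨f x, hxU⟩).asIdeal (hV.primeIdealOf ⟨x, hxV⟩).asIdeal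
  have : (algebraMap R (Localization.Away e)).Finite := RingHom.finite_algebraMap.mpr ‹_›
  let φ : Γ(S, U) ⟶ .of R := CommRingCat.ofHom <| algebraMap Γ(S, U) R
  have hφ : φ.hom.Etale := RingHom.etale_algebraMap.mpr ‹_›
  have : Etale (Spec.map φ) := HasRingHomProperty.Spec_iff.mpr hφ
  let e₁ : Spec (.of (R ⊗ Γ(X, V))) ≅ pullback (Spec.map (f.appLE U V hUV)) (Spec.map φ) :=
    (pullbackSpecIso _ _ _).symm ≪≫ pullbackSymmetry _ _
  have he₁ : e₁.hom ≫ pullback.fst _ _ =
      Spec.map (CommRingCat.ofHom Algebra.TensorProduct.includeRight.toRingHom) := by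
    dsimp [e₁, RingHom.algebraMap_toAlgebra]
    rw [Category.assoc, pullbackSymmetry_hom_comp_fst]
    exact pullbackSpecIso_inv_snd ..
  have he₂ : e₁.hom ≫ pullback.snd _ _ =
      Spec.map (CommRingCat.ofHom Algebra.TensorProduct.includeLeftRingHom) := by
    dsimp [e₁, RingHom.algebraMap_toAlgebra]
    rw [Category.assoc, pullbackSymmetry_hom_comp_snd]
    exact pullbackSpecIso_inv_fst ..
  let g : Spec (.of (R ⊗[Γ(S, U)] Γ(X, V))) ⟶ pullback f (Spec.map φ ≫ hU.fromSpec) :=
    e₁.hom ≫ pullback.map _ _ _ _ hV.fromSpec (𝟙 _) hU.fromSpec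
      (IsAffineOpen.SpecMap_appLE_fromSpec ..) (by simp)
  let W₁ := g ''ᵁ PrimeSpectrum.basicOpen e
  have hfin : IsFinite (W₁.ι ≫ pullback.snd f _) := by
    let ι : Spec (.of (Localization.Away e)) ⟶ pullback f (Spec.map φ ≫ hU.fromSpec) :=
      Spec.map (CommRingCat.ofHom <| algebraMap _ _) ≫ g
    have : ι.opensRange = W₁ := by
      simp only [Scheme.Hom.opensRange_comp, ι, W₁]
      congr 1
      exact TopologicalSpace.Opens.ext <| PrimeSpectrum.localization_away_comap_range _ _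
    rw [← this, ← MorphismProperty.cancel_left_of_respectsIso @IsFinite
      (Scheme.Hom.isoOpensRange _).hom]
    have H : (pullbackSpecIso _ R _).inv ≫ pullback.fst _ (Spec.map (f.appLE U V hUV)) = _ :=
      pullbackSpecIso_inv_fst ..
    simpa [Scheme.Hom.isoOpensRange, ι, g, e₁, RingHom.algebraMap_toAlgebra, φ, H,
      ← Spec.map_comp, IsFinite.SpecMap_iff]
  have hsnd : g ≫ pullback.snd f (Spec.map φ ≫ hU.fromSpec) =
      Spec.map (CommRingCat.ofHom Algebra.TensorProduct.includeLeftRingHom) := by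
    simp only [g, Category.assoc, pullback.map, pullback.lift_snd, Category.comp_id, he₂]
  refine ⟨Spec (.of R), Spec.map φ ≫ hU.fromSpec, ⟨P, ‹_›⟩, inferInstance, ?_, W₁, g ⟨P', ‹_›⟩,
    ⟨⟨P', ‹_›⟩, heP', rfl⟩, hfin, ?_, ?_, ?_, ?_⟩
  · dsimp [Spec.map_apply]
    convert! hU.fromSpec_primeIdealOf ⟨f x, hxU⟩
    exact PrimeSpectrum.ext (Ideal.over_def _ _).symm
  · trans hV.fromSpec ⟨P'.comap Algebra.TensorProduct.includeRight.toRingHom, inferInstance⟩
    · simp [← Scheme.Hom.comp_apply, -Scheme.Hom.comp_base, g, reassoc_of% he₁]; rfl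
    convert! hV.fromSpec_primeIdealOf ⟨x, hxV⟩
  · rw [← Scheme.Hom.comp_apply, hsnd]
    exact PrimeSpectrum.ext (P'.over_def P).symm
  · have hfst : g ≫ pullback.fst f (Spec.map φ ≫ hU.fromSpec) =
        Spec.map (CommRingCat.ofHom Algebra.TensorProduct.includeRight.toRingHom) ≫ hV.fromSpec := by
      simp only [g, Category.assoc, pullback.map, pullback.lift_fst, reassoc_of% he₁]
    let pt : Spec (CommRingCat.of (R ⊗[Γ(S, U)] Γ(X, V))) := ⟨P', ‹_›⟩
    have hs : IsIso ((Spec.map (CommRingCat.ofHom (Algebra.TensorProduct.includeRight :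
        Γ(X, V) →ₐ[Γ(S, U)] R ⊗[Γ(S, U)] Γ(X, V)).toRingHom)).residueFieldMap pt) :=
      (ConcreteCategory.isIso_iff_bijective _).2 ⟨RingHom.injective _,
        surjective_residueFieldMap_specMap _ _ (exists_sub_mem _ P P' hbij)⟩
    have h1 : IsIso ((Spec.map (CommRingCat.ofHom Algebra.TensorProduct.includeRight.toRingHom) ≫
        hV.fromSpec).residueFieldMap pt) := by
      rw [Scheme.residueFieldMap_comp]
      infer_instance
    have h2 : IsIso ((g ≫ pullback.fst f (Spec.map φ ≫ hU.fromSpec)).residueFieldMap pt) := by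
      rw [Scheme.Hom.residueFieldMap_congr hfst]
      infer_instance
    rw [Scheme.residueFieldMap_comp] at h2
    exact IsIso.of_isIso_comp_right _ (g.residueFieldMap pt)
  · rintro z ⟨⟨Q, hQ⟩, heQ, rfl⟩ hz
    replace hz := (congrArg (fun h : Spec (CommRingCat.of (R ⊗[Γ(S, U)] Γ(X, V))) ⟶ Spec (CommRingCat.of R) => h ⟨Q, hQ⟩) hsnd).symm.trans ((Scheme.Hom.comp_apply _ _ _).trans hz)
    have : Q.LiesOver P := ⟨(congrArg PrimeSpectrum.asIdeal hz).symm⟩
    exact congrArg g (PrimeSpectrum.ext (huniq Q hQ this heQ))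

theorem exists_etale_finite_immersion {Z X S : Scheme.{u}} (f : X ⟶ S) [LocallyOfFiniteType f]
    (i : Z ⟶ X) [IsImmersion i] [LocallyQuasiFinite (i ≫ f)] (z : Z) :
    ∃ (T : Scheme.{u}) (g : T ⟶ S) (U : (pullback f g).Opens)
      (u : ↥(pullback (U.ι ≫ pullback.fst f g) i)),
      Etale g ∧
      IsFinite (pullback.fst (U.ι ≫ pullback.fst f g) i ≫ U.ι ≫ pullback.snd f g) ∧
      (pullback.snd (U.ι ≫ pullback.fst f g) i).base u = z ∧
      IsIso ((pullback.snd (U.ι ≫ pullback.fst f g) i).residueFieldMap u) ∧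
      ∀ u' : ↥(pullback (U.ι ≫ pullback.fst f g) i),
        (pullback.fst (U.ι ≫ pullback.fst f g) i ≫ U.ι ≫ pullback.snd f g).base u' =
          (pullback.fst (U.ι ≫ pullback.fst f g) i ≫ U.ι ≫ pullback.snd f g).base u → u' = u := by
  have hq : (i ≫ f).QuasiFiniteAt z := (i ≫ f).quasiFiniteAt z
  obtain ⟨T, g, t, hg, -, V, v, hvV, hfin, hvz, hvt, hiso, huniq⟩ :=
    exists_elementary_etale_finite_unique (i ≫ f) z hq
  let j : pullback (i ≫ f) g ⟶ pullback f g :=
    pullback.lift (pullback.fst (i ≫ f) g ≫ i) (pullback.snd (i ≫ f) g)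
      (by rw [Category.assoc, pullback.condition])
  have hj : IsPullback (pullback.fst (i ≫ f) g) j i (pullback.fst f g) :=
    (IsPullback.of_bot (v₂₁ := pullback.snd f g) (h₃₁ := g) (v₂₂ := f)
      (by rw [show j ≫ pullback.snd f g = pullback.snd (i ≫ f) g from pullback.lift_snd _ _ _]
          exact IsPullback.of_hasPullback (i ≫ f) g)
      (pullback.lift_fst _ _ _).symm (IsPullback.of_hasPullback f g))
  have : IsImmersion j := MorphismProperty.of_isPullback hj ‹IsImmersion i›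
  obtain ⟨O, hO, hOV⟩ := j.isEmbedding.toIsInducing.isOpen_iff.1 V.2
  let U : (pullback f g).Opens := ⟨O, hO⟩
  have hUV : j ⁻¹ᵁ U = V := TopologicalSpace.Opens.ext hOV
  subst hUV
  have hsq : IsPullback (j ∣_ U) ((j ⁻¹ᵁ U).ι ≫ pullback.fst (i ≫ f) g) (U.ι ≫ pullback.fst f g) i :=
    (isPullback_morphismRestrict j U).paste_vert hj.flip
  let k := hsq.isoPullback
  have hks : k.inv ≫ (j ⁻¹ᵁ U).ι ≫ pullback.fst (i ≫ f) g = pullback.snd _ i := hsq.isoPullback_inv_snd
  have hkf : pullback.fst (U.ι ≫ pullback.fst f g) i ≫ U.ι ≫ pullback.snd f g =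
      k.inv ≫ (j ⁻¹ᵁ U).ι ≫ pullback.snd (i ≫ f) g := by
    rw [← hsq.isoPullback_inv_fst, Category.assoc, morphismRestrict_ι_assoc]
    simp only [k, j, pullback.lift_snd]
  refine ⟨T, g, U, k.hom.base ⟨v, hvV⟩, hg, ?_, ?_, ?_, fun u' hu' => ?_⟩
  · rw [hkf, MorphismProperty.cancel_left_of_respectsIso @IsFinite]
    exact hfin
  · rw [← hks, ← Scheme.Hom.comp_apply, Iso.hom_inv_id_assoc, Scheme.Hom.comp_apply]
    exact hvz
  · have h2 : IsIso ((k.hom ≫ pullback.snd (U.ι ≫ pullback.fst f g) i).residueFieldMap ⟨v, hvV⟩) := by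
      rw [Scheme.Hom.residueFieldMap_congr hsq.isoPullback_hom_snd, Scheme.residueFieldMap_comp]
      exact IsIso.comp_isIso' inferInstance (IsIso.comp_isIso' hiso inferInstance)
    rw [Scheme.residueFieldMap_comp] at h2
    refine (ConcreteCategory.isIso_iff_bijective _).2 ⟨RingHom.injective _, fun y => ?_⟩
    obtain ⟨w, hw⟩ := ((ConcreteCategory.isIso_iff_bijective _).1 h2).2 ((k.hom.residueFieldMap ⟨v, hvV⟩).hom y)
    exact ⟨w, (k.hom.residueFieldMap ⟨v, hvV⟩).hom.injective hw⟩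
  · rw [hkf, ← Scheme.Hom.comp_apply k.hom, Iso.hom_inv_id_assoc, Scheme.Hom.comp_apply,
      Scheme.Hom.comp_apply, Scheme.Hom.comp_apply] at hu'
    have h3 := huniq ((j ⁻¹ᵁ U).ι.base (k.inv.base u')) (k.inv.base u').2 (hu'.trans hvt)
    have h4 : k.inv.base u' = ⟨v, hvV⟩ := Subtype.ext h3
    rw [← h4, ← Scheme.Hom.comp_apply, Iso.inv_hom_id]
    rfl

end Groth.Agent.Cyc20
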