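import Mathlib

/-! Common complements and bilinear forms with nondegenerate symmetrization. -/

set_option autoImplicit false

open Module

namespace Groth.Agent.Cyc20

universe u
variable (k V : Type u) [Field k] [AddCommGroup V] [Module k V] [FiniteDimensional k V]

omit [FiniteDimensional k V] in
theorem exists_notMem_two (A B : Submodule k V) (hA : A ≠ ⊤) (hB : B ≠ ⊤) : ∃ v, v ∉ A ∧ v ∉ B := by
  obtain ⟨a, -, ha⟩ := SetLike.exists_of_lt hA.lt_top
  obtain ⟨b, -, hb⟩ := SetLike.exists_of_lt hB.lt_top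
  by_contra h
  push Not at h
  have haB : a ∈ B := h a ha
  have hbA : b ∈ A := by by_contra hb'; exact hb (h b hb')
  by_cases hab : a + b ∈ A
  · exact ha (by simpa using A.sub_mem hab hbA)
  · exact hb (by simpa using B.sub_mem (h _ hab) haB)

theorem exists_common_compl (A B : Submodule k V) (h : finrank k A = finrank k B) :
    ∃ M : Submodule k V, IsCompl A M ∧ IsCompl B M := by
  suffices ∀ m ≤ finrank k V - finrank k A, ∃ M : Submodule k V, finrank k M = m ∧ Disjoint A M ∧ Disjoint B M by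
    obtain ⟨M, hM, hA, hB⟩ := this _ le_rfl
    have hle := A.finrank_le
    refine ⟨M, ⟨hA, codisjoint_iff.2 (Submodule.eq_top_of_disjoint _ _ ?_ hA)⟩,
      ⟨hB, codisjoint_iff.2 (Submodule.eq_top_of_disjoint _ _ ?_ hB)⟩⟩ <;> omega
  intro m hm
  induction m with
  | zero => exact ⟨⊥, finrank_bot k V, disjoint_bot_right, disjoint_bot_right⟩
  | succ m ih =>
    obtain ⟨M, hM, hA, hB⟩ := ih (by omega)
    have h1 : ∀ C : Submodule k V, finrank k C = finrank k A → C ⊔ M ≠ ⊤ := fun C hC hC' => by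
      have := Submodule.finrank_add_le_finrank_add_finrank C M
      rw [hC', finrank_top] at this
      omega
    obtain ⟨v, hvA, hvB⟩ := exists_notMem_two k V _ _ (h1 A rfl) (h1 B h.symm)
    have hv0 : v ≠ 0 := fun e => hvA (e ▸ zero_mem _)
    have hvM : Disjoint M (k ∙ v) := by
      rw [Submodule.disjoint_span_singleton' hv0]
      exact fun e => hvA (Submodule.mem_sup_right e)
    refine ⟨M ⊔ (k ∙ v), ?_, ?_, ?_⟩
    · have := Submodule.finrank_sup_add_finrank_inf_eq M (k ∙ v)
      rw [hvM.eq_bot, finrank_bot, finrank_span_singleton hv0] at this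
      omega
    all_goals refine Disjoint.disjoint_sup_right_of_disjoint_sup_left ‹Disjoint _ M› ?_
    · rwa [Submodule.disjoint_span_singleton' hv0]
    · rwa [Submodule.disjoint_span_singleton' hv0]

theorem exists_compl_graph_inf (T : Submodule k (V × Module.Dual k V))
    (hT : Module.finrank k T = Module.finrank k V) :
    ∃ (V₂ : Submodule k V) (h : IsCompl (T.comap (LinearMap.inl k V (Module.Dual k V))) V₂),
      ∀ A₁ : T.comap (LinearMap.inl k V (Module.Dual k V)) →ₗ[k]
          Module.Dual k (T.comap (LinearMap.inl k V (Module.Dual k V))),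
        Function.Injective A₁ →
          LinearMap.graph ((Submodule.projectionOnto _ V₂ h).dualMap ∘ₗ A₁ ∘ₗ
              Submodule.projectionOnto _ V₂ h) ⊓ T = ⊥ := by
  let V₁ := T.comap (LinearMap.inl k V (Module.Dual k V))
  let f : T →ₗ[k] Module.Dual k V := (LinearMap.snd k V (Module.Dual k V)).comp T.subtype
  let e : LinearMap.ker f ≃ₗ[k] V₁ :=
    { toFun := fun t => ⟨t.1.1.1, by
        show (t.1.1.1, (0 : Module.Dual k V)) ∈ T
        rw [← (LinearMap.mem_ker.1 t.2 : t.1.1.2 = 0)]
        exact t.1.2⟩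
      map_add' := fun _ _ => rfl
      map_smul' := fun _ _ => rfl
      invFun := fun v => ⟨⟨(v.1, 0), v.2⟩, rfl⟩
      left_inv := fun t => Subtype.ext (Subtype.ext (Prod.ext rfl (LinearMap.mem_ker.1 t.2).symm))
      right_inv := fun _ => rfl }
  have h1 := LinearMap.finrank_range_add_finrank_ker (K := k) (V := ↥T) (V₂ := Module.Dual k V) f
  rw [e.finrank_eq, hT] at h1
  have h2 := Subspace.finrank_add_finrank_dualCoannihilator_eq (LinearMap.range f)
  have hd : finrank k V₁ = finrank k (LinearMap.range f).dualCoannihilator := by omega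
  obtain ⟨M, hM1, hM2⟩ := exists_common_compl k V V₁ _ hd
  refine ⟨M, hM1, fun A₁ hA₁ => ?_⟩
  rw [eq_bot_iff]
  rintro ⟨x, φ⟩ ⟨hg, hx⟩
  have hg' : φ = ((Submodule.projectionOnto V₁ M hM1).dualMap ∘ₗ A₁ ∘ₗ
      Submodule.projectionOnto V₁ M hM1) x := (LinearMap.mem_graph_iff _ (x := (x, φ))).1 hg
  have hφM : ∀ v ∈ M, φ v = 0 := fun v hv => by
    rw [hg']
    show A₁ _ (Submodule.projectionOnto V₁ M hM1 v) = 0
    rw [Submodule.projectionOnto_apply_eq_zero_iff hM1 |>.2 hv, map_zero]
  have hφ : φ = 0 := by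
    ext v
    obtain ⟨a, ha, b, hb, rfl⟩ := Submodule.mem_sup.1
      (hM2.sup_eq_top ▸ Submodule.mem_top : v ∈ (LinearMap.range f).dualCoannihilator ⊔ M)
    rw [map_add, hφM b hb, (Submodule.mem_dualCoannihilator _).1 ha φ ⟨⟨(x, φ), hx⟩, rfl⟩]
    simp
  subst hφ
  have hx1 : x ∈ V₁ := hx
  have hp : Submodule.projectionOnto V₁ M hM1 x = ⟨x, hx1⟩ :=
    Submodule.projectionOnto_apply_left hM1 ⟨x, hx1⟩
  have : A₁ ⟨x, hx1⟩ = 0 := by
    ext w
    have h3 := LinearMap.congr_fun hg'.symm (w : V)
    rw [← hp]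
    simpa using h3
  have := hA₁ (this.trans A₁.map_zero.symm)
  have hx0 : x = 0 := congrArg Subtype.val this
  rw [Submodule.mem_bot, hx0]
  rfl

theorem exists_bilin_symm_nondegenerate (h : Even (Module.finrank k V) ∨ ringChar k ≠ 2) :
    ∃ B : LinearMap.BilinForm k V, (B + B.flip).Nondegenerate := by
  have key : ∀ {ι : Type} [Fintype ι] [DecidableEq ι] (_ : Basis ι k V) (M : Matrix ι ι k),
      IsUnit (M + M.transpose).det → ∃ B : LinearMap.BilinForm k V, (B + B.flip).Nondegenerate := by
    intro ι _ _ b M hM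
    refine ⟨Matrix.toBilin b M, (LinearMap.BilinForm.nondegenerate_iff_det_ne_zero b).2 ?_⟩
    have hflip : LinearMap.BilinForm.toMatrix b (Matrix.toBilin b M).flip = M.transpose := by
      ext i j
      rw [LinearMap.BilinForm.toMatrix_apply, LinearMap.BilinForm.flip_apply, ← LinearMap.BilinForm.toMatrix_apply,
        LinearMap.BilinForm.toMatrix_toBilin, Matrix.transpose_apply]
    rw [map_add, LinearMap.BilinForm.toMatrix_toBilin, hflip]
    exact hM.ne_zero
  rcases h with ⟨m, hm⟩ | h2
  · let b : Basis (Fin m ⊕ Fin m) k V := (Module.finBasisOfFinrankEq k V hm).reindex finSumFinEquiv.symm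
    refine key b (Matrix.fromBlocks (0 : Matrix (Fin m) (Fin m) k) 1 0 0) ?_
    rw [Matrix.fromBlocks_transpose, Matrix.fromBlocks_add, Matrix.transpose_one, Matrix.transpose_zero]
    simp only [add_zero, zero_add]
    have : (Matrix.fromBlocks (0 : Matrix (Fin m) (Fin m) k) 1 1 (0 : Matrix (Fin m) (Fin m) k)) *
        Matrix.fromBlocks (0 : Matrix (Fin m) (Fin m) k) 1 1 (0 : Matrix (Fin m) (Fin m) k) = 1 := by
      simp [Matrix.fromBlocks_multiply]
    exact Matrix.isUnit_det_of_left_inverse this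
  · refine key (Module.finBasis k V) 1 ?_
    rw [Matrix.transpose_one, ← two_smul k, Matrix.det_smul, Matrix.det_one, mul_one]
    exact ((isUnit_iff_ne_zero.2 (Ring.two_ne_zero h2)).pow _)

end Groth.Agent.Cyc20
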